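import Groth.Agent.Lib.GrothSS.HomExt
import Groth.Agent.Lib.SheafCoh.PushInj
import Groth.Agent.Lib.SheafCoh.Restrict
import Groth.Prelude.Def_LocCohZ

/-! # Sections with supports on a topological space -/

set_option autoImplicit false
universe u

open CategoryTheory CategoryTheory.Limits Opposite TopologicalSpace

namespace GrothLib.LocZ

open GrothLib

variable {X : TopCat.{u}} (U : Opens X)

/-- Restriction is left adjoint to direct image from the open. -/
noncomputable def restrAdj : CohTop.restrFunctor U ⊣ CohTop.push (CohCx.incl U) :=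
  (TopCat.Sheaf.pullbackPushforwardAdjunction AddCommGrpCat.{u} (CohCx.incl U)).ofNatIsoLeft
    ((SheafCoh.isOpenEmbedding_inclusion U).sheafPullbackIso AddCommGrpCat.{u})

/-- The unit of the adjunction. -/
noncomputable abbrev η (F : CohTop.Ab X) :
    F ⟶ (CohTop.push (CohCx.incl U)).obj ((CohTop.pull (CohCx.incl U)).obj F) :=
  (TopCat.Sheaf.pullbackPushforwardAdjunction AddCommGrpCat.{u} (CohCx.incl U)).unit.app F

lemma openFun_preimage {W : Opens X} (hW : W ≤ U) :
    (SheafCoh.openFun U).obj ((Opens.map (CohCx.incl U)).obj W) = W :=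
  Opens.ext (by ext x; exact ⟨fun ⟨y, hy, e⟩ => e ▸ hy, fun hx => ⟨⟨x, hW hx⟩, hx, rfl⟩⟩)

lemma preimage_inf (V : Opens X) :
    (Opens.map (CohCx.incl U)).obj V = (Opens.map (CohCx.incl U)).obj (V ⊓ U) :=
  Opens.ext (by ext x; exact ⟨fun h => ⟨h, x.2⟩, fun h => h.1⟩)

/-- The unit is injective on opens inside `U`. -/
theorem η_injective (F : CohTop.Ab X) {W : Opens X} (hW : W ≤ U) :
    Function.Injective ((η U F).hom.app (op W)) := by
  have : IsSplitMono ((CohTop.restrFunctor U).map ((restrAdj U).unit.app F)) :=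
    IsSplitMono.mk' ⟨_, (restrAdj U).left_triangle_components F⟩
  have hm : Mono (((sheafToPresheaf _ AddCommGrpCat.{u}).map
      ((CohTop.restrFunctor U).map ((restrAdj U).unit.app F))).app
        (op ((Opens.map (CohCx.incl U)).obj W))) := inferInstance
  have hinj : Function.Injective (((restrAdj U).unit.app F).hom.app
      (op ((SheafCoh.openFun U).obj ((Opens.map (CohCx.incl U)).obj W)))) :=
    (AddCommGrpCat.mono_iff_injective _).1 hm
  rw [openFun_preimage U hW] at hinj
  intro a b hab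
  apply hinj
  change ((η U F ≫ _).hom.app (op W)) a = ((η U F ≫ _).hom.app (op W)) b
  rw [ObjectProperty.FullSubcategory.comp_hom, NatTrans.comp_app, ConcreteCategory.comp_apply,
    ConcreteCategory.comp_apply, hab]

/-- The kernel of the unit consists of the sections vanishing on `U`. -/
theorem η_eq_zero_iff (F : CohTop.Ab X) (V : Opens X) (s : F.obj.obj (op V)) :
    (η U F).hom.app (op V) s = 0 ↔ F.obj.map (homOfLE (inf_le_left : V ⊓ U ≤ V)).op s = 0 := by
  let P := (CohTop.push (CohCx.incl U)).obj ((CohTop.pull (CohCx.incl U)).obj F)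
  have hiso : IsIso (P.obj.map (homOfLE (inf_le_left : V ⊓ U ≤ V)).op) := by
    have : IsIso ((Opens.map (CohCx.incl U)).map (homOfLE (inf_le_left : V ⊓ U ≤ V))) :=
      ⟨homOfLE (preimage_inf U V).le, Subsingleton.elim _ _, Subsingleton.elim _ _⟩
    exact inferInstanceAs (IsIso (((CohTop.pull (CohCx.incl U)).obj F).obj.map
      ((Opens.map (CohCx.incl U)).map (homOfLE (inf_le_left : V ⊓ U ≤ V))).op))
  have hn := ConcreteCategory.congr_hom
    ((η U F).hom.naturality (homOfLE (inf_le_left : V ⊓ U ≤ V)).op) s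
  have hinj := ((ConcreteCategory.isIso_iff_bijective _).1 hiso).1
  constructor
  · intro h
    apply η_injective U F (inf_le_right : V ⊓ U ≤ U)
    refine (hn.trans ?_).trans (map_zero _).symm
    change P.obj.map _ ((η U F).hom.app (op V) s) = 0
    rw [h]
    exact map_zero _
  · intro h
    apply hinj
    refine (hn.symm.trans ?_).trans (map_zero _).symm
    change (η U F).hom.app _ (F.obj.map _ s) = 0
    rw [h]
    exact map_zero _

/-- The inclusion of sections with supports, on sections. -/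
noncomputable abbrev ι (F : CohTop.Ab X) (V : Opens X) :
    (CohCx.sectSupp U F).obj.obj (op V) ⟶ F.obj.obj (op V) :=
  ((kernel.ι (η U F)) : CohCx.sectSupp U F ⟶ F).hom.app (op V)

lemma ι_injective (F : CohTop.Ab X) (V : Opens X) : Function.Injective (ι U F V) :=
  (AddCommGrpCat.mono_iff_injective _).1
    (inferInstanceAs (Mono (((sheafToPresheaf _ AddCommGrpCat.{u}).map (kernel.ι (η U F))).app (op V))))

lemma ι_vanish (F : CohTop.Ab X) (V : Opens X) (t : (CohCx.sectSupp U F).obj.obj (op V)) :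
    F.obj.map (homOfLE (inf_le_left : V ⊓ U ≤ V)).op (ι U F V t) = 0 :=
  (η_eq_zero_iff U F V _).1
    (ConcreteCategory.congr_hom (congrArg (fun k => k.hom.app (op V)) (kernel.condition (η U F))) t)

/-- Sections vanishing on `U` are sections with supports. -/
theorem exists_lift (F : CohTop.Ab X) (V : Opens X) (s : F.obj.obj (op V))
    (hs : F.obj.map (homOfLE (inf_le_left : V ⊓ U ≤ V)).op s = 0) :
    ∃ t, ι U F V t = s := by
  let S := ShortComplex.mk (kernel.ι (η U F)) (η U F) (kernel.condition _)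
  have hS : S.Exact := S.exact_of_f_is_kernel (kernelIsKernel _)
  have := (hS.map_of_mono_of_preservesKernel
    (sheafToPresheaf (Opens.grothendieckTopology X) AddCommGrpCat.{u} ⋙
      (evaluation _ _).obj (op V)) inferInstance inferInstance)
  exact (ShortComplex.ab_exact_iff _).1 this s ((η_eq_zero_iff U F V s).2 hs)

variable {W V : Opens X} (h : W ≤ V)

/-- Sections over `V` vanishing on `W`, as a functor. -/
noncomputable def sectZF : CohTop.Ab X ⥤ AddCommGrpCat.{u} where
  obj F := AddCommGrpCat.of (LocCohZ.sectZ F h)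
  map {F G} φ := AddCommGrpCat.ofHom (AddMonoidHom.mk'
    (fun s => (⟨φ.hom.app (op V) s.1, by
      rw [AddMonoidHom.mem_ker]
      refine (ConcreteCategory.congr_hom (φ.hom.naturality (homOfLE h).op) s.1).symm.trans ?_
      exact (congrArg (φ.hom.app (op W)) s.2).trans (map_zero _)⟩ : LocCohZ.sectZ G h))
    (fun a b => Subtype.ext (map_add _ a.1 b.1)))
  map_id F := by ext s; rfl
  map_comp f g := by ext s; rfl

instance : (sectZF h).Additive where
  map_add := by intros; ext s; rfl

/-- They are the maps out of `ℤ_V/ℤ_W`. -/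
noncomputable def sectZFIso : sectZF h ≅ GrothSS.homFun (LocCohZ.zq h) :=
  NatIso.ofComponents
    (fun F => (((LocCohZ.sect0Equiv F h).symm).trans Abelian.Ext.addEquiv₀).toAddCommGrpIso)
    (fun {F G} g => by
      ext s
      obtain ⟨x, rfl⟩ : ∃ x, LocCohZ.sect0Equiv F h (Abelian.Ext.addEquiv₀.symm x) = s :=
        ⟨Abelian.Ext.addEquiv₀ ((LocCohZ.sect0Equiv F h).symm s), by simp⟩
      change Abelian.Ext.addEquiv₀ ((LocCohZ.sect0Equiv G h).symm ((sectZF h).map g _)) =
        Abelian.Ext.addEquiv₀ ((LocCohZ.sect0Equiv F h).symm _) ≫ g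
      rw [AddEquiv.symm_apply_apply, AddEquiv.apply_symm_apply]
      apply Abelian.Ext.addEquiv₀.symm.injective
      rw [AddEquiv.symm_apply_apply]
      apply (LocCohZ.sect0Equiv G h).injective
      rw [AddEquiv.apply_symm_apply]
      apply Subtype.ext
      change g.hom.app (op V) (CohFree.evalGen (Opens.grothendieckTopology X) V F
          (cokernel.π _ ≫ Abelian.Ext.addEquiv₀ (Abelian.Ext.addEquiv₀.symm x))) =
        CohFree.evalGen (Opens.grothendieckTopology X) V G
          (cokernel.π _ ≫ Abelian.Ext.addEquiv₀ (Abelian.Ext.addEquiv₀.symm (x ≫ g)))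
      rw [AddEquiv.apply_symm_apply, AddEquiv.apply_symm_apply]
      rfl)

/-- `R^n` of sections with supports is `Ext^n(ℤ_V/ℤ_W, -)`. -/
noncomputable def rightDerivedSectZFIso (n : ℕ) :
    (sectZF h).rightDerived n ≅ Abelian.extFunctorObj (LocCohZ.zq h) n :=
  GrothSS.rightDerivedExtFunctorIso (LocCohZ.zq h) (sectZF h) (sectZFIso h) n

lemma sectSuppF_map_ι {F G : CohTop.Ab X} (φ : F ⟶ G) (V : Opens X)
    (t : (CohCx.sectSupp U F).obj.obj (op V)) :
    ι U G V (((LocCohZ.sectSuppF U).map φ).hom.app (op V) t) = φ.hom.app (op V) (ι U F V t) := by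
  have : (LocCohZ.sectSuppF U).map φ ≫ kernel.ι (η U G) = kernel.ι (η U F) ≫ φ := kernel.lift_ι _ _ _
  exact ConcreteCategory.congr_hom (congrArg (fun k => k.hom.app (op V)) this) t

lemma vanish_inf_iff (F : CohTop.Ab X) (V : Opens X) (s : F.obj.obj (op V)) {W : Opens X} (h : W ≤ V)
    (hW : V ⊓ U = W) :
    F.obj.map (homOfLE (inf_le_left : V ⊓ U ≤ V)).op s = 0 ↔ F.obj.map (homOfLE h).op s = 0 := by
  subst hW
  exact Iff.rfl

/-- Global sections with supports. -/
noncomputable def gammaZFIso : LocCohZ.gammaZF U ≅ sectZF (le_top : U ≤ ⊤) :=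
  NatIso.ofComponents
    (fun F => (AddEquiv.ofBijective
      (AddMonoidHom.mk' (fun t => (⟨ι U F ⊤ t, AddMonoidHom.mem_ker.2
          ((vanish_inf_iff U F ⊤ _ le_top (top_inf_eq U)).1 (ι_vanish U F ⊤ t))⟩ :
            LocCohZ.sectZ F (le_top : U ≤ ⊤)))
        (fun a b => Subtype.ext (map_add (ι U F ⊤).hom a b)) :
        (CohCx.sectSupp U F).obj.obj (op ⊤) →+ LocCohZ.sectZ F (le_top : U ≤ ⊤))
      ⟨fun a b e => ι_injective U F ⊤ (congrArg Subtype.val e), fun s => by
        obtain ⟨t, ht⟩ := exists_lift U F ⊤ s.1 ((vanish_inf_iff U F ⊤ _ le_top (top_inf_eq U)).2 s.2)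
        exact ⟨t, Subtype.ext ht⟩⟩).toAddCommGrpIso)
    (fun {F G} g => by
      ext t
      apply Subtype.ext
      exact sectSuppF_map_ι U g ⊤ t)

/-- `R^n Γ_Z = H^n_Z`. -/
noncomputable def RHZIso (n : ℕ) :
    LocCohZ.RHZ U n ≅ Abelian.extFunctorObj (LocCohZ.zq (le_top : U ≤ ⊤)) n :=
  SheafCoh.rightDerivedCongr (gammaZFIso U) n ≪≫ rightDerivedSectZFIso (le_top : U ≤ ⊤) n

/-- Sections with supports of a flasque sheaf form a flasque sheaf. -/
theorem isFlasque_sectSupp (F : CohTop.Ab X) [hF : TopCat.Sheaf.IsFlasque F] :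
    TopCat.Sheaf.IsFlasque (CohCx.sectSupp U F) := ⟨fun {A B} i => by
  rw [AddCommGrpCat.epi_iff_surjective]
  intro t
  let s := ι U F B.unop t
  have hle : B.unop ≤ A.unop := i.unop.le
  let Y : Bool → Opens X := fun b => cond b B.unop (A.unop ⊓ U)
  have hY : ∀ b, Y b ≤ A.unop := fun b => by cases b <;> simp [Y, hle]
  let sf : ∀ b, F.obj.obj (op (Y b)) := fun b => match b with
    | true => s
    | false => 0
  have hs0 := ι_vanish U F B.unop t
  have hcompat : TopCat.Presheaf.IsCompatible F.obj Y sf := by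
    rintro ⟨⟩ ⟨⟩
    · rfl
    · change F.obj.map _ (0 : F.obj.obj (op (A.unop ⊓ U))) = F.obj.map _ s
      rw [map_zero]
      refine Eq.trans ?_ (congrArg (F.obj.map (homOfLE
        (show (A.unop ⊓ U) ⊓ B.unop ≤ B.unop ⊓ U from le_inf inf_le_right
          (inf_le_left.trans inf_le_right))).op) hs0).symm |>.trans ?_
      · exact (map_zero _).symm
      · exact (ConcreteCategory.congr_hom (F.obj.map_comp (homOfLE (inf_le_left : B.unop ⊓ U ≤ B.unop)).op
          (homOfLE (show (A.unop ⊓ U) ⊓ B.unop ≤ B.unop ⊓ U from le_inf inf_le_right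
            (inf_le_left.trans inf_le_right))).op) s).symm
    · change F.obj.map _ s = F.obj.map _ (0 : F.obj.obj (op (A.unop ⊓ U)))
      rw [map_zero]
      refine Eq.trans ?_ ((congrArg (F.obj.map (homOfLE
        (show B.unop ⊓ (A.unop ⊓ U) ≤ B.unop ⊓ U from le_inf inf_le_left
          (inf_le_right.trans inf_le_right))).op) hs0).trans (map_zero _))
      exact ConcreteCategory.congr_hom (F.obj.map_comp (homOfLE (inf_le_left : B.unop ⊓ U ≤ B.unop)).op
        (homOfLE (show B.unop ⊓ (A.unop ⊓ U) ≤ B.unop ⊓ U from le_inf inf_le_left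
          (inf_le_right.trans inf_le_right))).op) s
    · rfl
  obtain ⟨g, hg, -⟩ := TopCat.Sheaf.existsUnique_gluing F Y sf hcompat
  obtain ⟨g', hg'⟩ := (AddCommGrpCat.epi_iff_surjective _).1
    (hF.epi (homOfLE (iSup_le hY)).op) g
  have hA : ∀ b, F.obj.map (homOfLE (hY b)).op g' = sf b := fun b => by
    rw [← hg b, ← hg', ← ConcreteCategory.comp_apply, ← F.obj.map_comp]
    rfl
  obtain ⟨t', ht'⟩ := exists_lift U F A.unop g' (hA false)
  refine ⟨t', ι_injective U F B.unop ?_⟩
  refine (ConcreteCategory.congr_hom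
    (((kernel.ι (η U F)) : CohCx.sectSupp U F ⟶ F).hom.naturality i) t').trans ?_
  change F.obj.map i (ι U F A.unop t') = s
  rw [ht']
  exact hA true⟩

end GrothLib.LocZ
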