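import Groth.Agent.Lib.LocZ.Seq
import Groth.Agent.Lib.SheafCoh.AcyclicRes
import Groth.Agent.Lib.SheafCoh.DerivedComp
import Groth.Agent.Lib.SheafCoh.OverLan
import Mathlib.Topology.Sheaves.Over
import Mathlib.CategoryTheory.Preadditive.Injective.Basic

/-! # Derived functors after an exact functor preserving injectives, and excision -/

set_option autoImplicit false
universe u v v' v'' w w' w''

open CategoryTheory CategoryTheory.Limits Opposite TopologicalSpace

namespace GrothLib.LocZ

open GrothLib

section PreExact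

variable {A : Type w} [Category.{v} A] [Abelian A] [HasInjectiveResolutions A]
  {B : Type w'} [Category.{v'} B] [Abelian B] [HasInjectiveResolutions B]
  {D : Type w''} [Category.{v''} D] [Abelian D]
  (G : A ⥤ B) [G.Additive] [PreservesFiniteLimits G] [PreservesFiniteColimits G]

theorem isZero_rightDerived_exact (F : A) (n : ℕ) : IsZero ((G.rightDerived (n + 1)).obj F) := by
  have := Functor.preservesHomologyOfExact G
  refine IsZero.of_iso (G.map_isZero ?_)
    ((injectiveResolution F).isoRightDerivedObj G (n + 1) ≪≫ SheafCoh.mapHCHomologyIso G _ (n + 1))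
  exact (HomologicalComplex.exactAt_iff_isZero_homology _ _).1
    ((injectiveResolution F).cocomplex_exactAt_succ n)

omit [Abelian D] in
lemma square_paste {D : Type w''} [Category.{v''} D] {a₀ a₁ b₀ b₁ c₀ c₁ d₀ d₁ : D} {r₁ : a₀ ⟶ a₁}
    {α₀ : a₀ ⟶ b₀} {α₁ : a₁ ⟶ b₁} {p : b₀ ⟶ b₁} {μ₀ : b₀ ⟶ c₀} {μ₁ : b₁ ⟶ c₁} {q : c₀ ⟶ c₁}
    {β₀ : d₀ ≅ c₀} {β₁ : d₁ ≅ c₁} {r₂ : d₀ ⟶ d₁}
    (h₁ : r₁ ≫ α₁ = α₀ ≫ p) (h₃ : p ≫ μ₁ = μ₀ ≫ q) (h₂ : r₂ ≫ β₁.hom = β₀.hom ≫ q) :
    r₁ ≫ α₁ ≫ μ₁ ≫ β₁.inv = (α₀ ≫ μ₀ ≫ β₀.inv) ≫ r₂ := by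
  rw [reassoc_of% h₁, reassoc_of% h₃, ← cancel_mono β₁.hom]
  simp [h₂]

variable (hG : ∀ I : A, Injective I → Injective (G.obj I)) (Φ : B ⥤ D) [Φ.Additive]

/-- `R^n(Φ ∘ G) = R^nΦ ∘ G` for exact `G` preserving injectives. -/
noncomputable def rightDerivedPreExactIso (n : ℕ) : G ⋙ Φ.rightDerived n ≅ (G ⋙ Φ).rightDerived n :=
  NatIso.ofComponents
    (fun F => (SheafCoh.mapInjectiveResolution G (injectiveResolution F) hG
        (isZero_rightDerived_exact G F)).isoRightDerivedObj Φ n ≪≫
      (HomologicalComplex.homologyFunctor _ _ n).mapIso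
        ((Functor.mapHomologicalComplexCompIso (Iso.refl (G ⋙ Φ)) (ComplexShape.up ℕ)).app
          (injectiveResolution F).cocomplex) ≪≫
      ((injectiveResolution F).isoRightDerivedObj (G ⋙ Φ) n).symm)
    (fun {F F'} f => by
      let I := injectiveResolution F
      let I' := injectiveResolution F'
      let φ := InjectiveResolution.desc f I' I
      have hφ : I.ι.f 0 ≫ φ.f 0 = f ≫ I'.ι.f 0 := by
        rw [← HomologicalComplex.comp_f, InjectiveResolution.desc_commutes]
        simp
      let J := SheafCoh.mapInjectiveResolution G I hG (isZero_rightDerived_exact G F)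
      let J' := SheafCoh.mapInjectiveResolution G I' hG (isZero_rightDerived_exact G F')
      let ψ : J.cocomplex ⟶ J'.cocomplex := (G.mapHomologicalComplex _).map φ
      have hψ : J.ι.f 0 ≫ ψ.f 0 = G.map f ≫ J'.ι.f 0 := by
        have e : ∀ {X : A} (P : InjectiveResolution X),
            (SheafCoh.mapInjectiveResolution G P hG (isZero_rightDerived_exact G X)).ι.f 0 = G.map (P.ι.f 0) :=
          fun P => by
            change ((CochainComplex.fromSingle₀Equiv _ _).symm _).f 0 = _
            simp [CochainComplex.fromSingle₀Equiv]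
        rw [e I, e I']
        exact (G.map_comp _ _).symm.trans ((congrArg G.map hφ).trans (G.map_comp _ _))
      have h₁ := InjectiveResolution.isoRightDerivedObj_hom_naturality (G.map f) J J' ψ hψ Φ n
      have h₂ := InjectiveResolution.isoRightDerivedObj_hom_naturality f I I' φ hφ (G ⋙ Φ) n
      have h₃ := congrArg (fun t => (HomologicalComplex.homologyFunctor D (ComplexShape.up ℕ) n).map t)
        ((Functor.mapHomologicalComplexCompIso (Iso.refl (G ⋙ Φ)) (ComplexShape.up ℕ)).hom.naturality φ)
      simp only [Functor.map_comp] at h₃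
      exact square_paste h₁ h₃ h₂)

end PreExact

variable {X : TopCat.{u}} (V : Opens X)

theorem injective_restr (I : CohTop.Ab X) [Injective I] : Injective ((CohTop.restrFunctor V).obj I) :=
  have := SheafCoh.injective_over V (Opens.grothendieckTopology X) I
  ((V.sheafEquivOver (A := AddCommGrpCat.{u})).map_injective_iff _).2 this

theorem preservesFiniteLimits_restr : PreservesFiniteLimits (CohTop.restrFunctor V) :=
  have := SheafCoh.preservesFiniteLimits_pull (CohCx.incl V)
  preservesFiniteLimits_of_natIso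
    ((SheafCoh.isOpenEmbedding_inclusion V).sheafPullbackIso AddCommGrpCat.{u})

theorem preservesFiniteColimits_restr : PreservesFiniteColimits (CohTop.restrFunctor V) :=
  have : PreservesColimitsOfSize.{0, 0} (CohTop.restrFunctor V) := (restrAdj V).leftAdjoint_preservesColimits
  inferInstance

/-- Sections with supports computed on the open subspace. -/
noncomputable def restrSectZFIso {W : Opens X} (h : W ≤ V) :
    sectZF h ≅ CohTop.restrFunctor V ⋙ sectZF (le_top : (Opens.map (CohCx.incl V)).obj W ≤ ⊤) :=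
  NatIso.ofComponents
    (fun F => (AddEquiv.ofBijective
      (AddMonoidHom.mk' (fun s : LocCohZ.sectZ F h =>
        (⟨F.obj.map (eqToHom (show (SheafCoh.openFun V).obj ⊤ = V from Opens.ext (by
            ext z; exact ⟨fun ⟨z', _, e⟩ => e ▸ z'.2, fun hz => ⟨⟨z, hz⟩, trivial, rfl⟩⟩))).op s.1, by
          rw [AddMonoidHom.mem_ker]
          change F.obj.map _ (F.obj.map _ s.1) = 0
          refine (ConcreteCategory.congr_hom (F.obj.map_comp _ _) s.1).symm.trans ?_
          refine Eq.trans ?_ ((congrArg (F.obj.map (eqToHom (openFun_preimage V h)).op) s.2).trans (map_zero _))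
          exact ConcreteCategory.congr_hom (F.obj.map_comp (homOfLE h).op (eqToHom (openFun_preimage V h)).op) s.1⟩ :
            LocCohZ.sectZ (CohTop.restr F V) (le_top : (Opens.map (CohCx.incl V)).obj W ≤ ⊤)))
        (fun a b => Subtype.ext (map_add _ a.1 b.1)))
      ⟨fun a b e => Subtype.ext (((ConcreteCategory.isIso_iff_bijective _).1 inferInstance).1
          (congrArg Subtype.val e)), fun t => by
        have hT : (SheafCoh.openFun V).obj ⊤ = V := Opens.ext (by
            ext z; exact ⟨fun ⟨z', _, e⟩ => e ▸ z'.2, fun hz => ⟨⟨z, hz⟩, trivial, rfl⟩⟩)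
        obtain ⟨s, hs⟩ := ((ConcreteCategory.isIso_iff_bijective (F.obj.map (eqToHom hT).op)).1 inferInstance).2 t.1
        refine ⟨⟨s, ?_⟩, Subtype.ext hs⟩
        rw [AddMonoidHom.mem_ker]
        apply ((ConcreteCategory.isIso_iff_bijective (F.obj.map (eqToHom (openFun_preimage V h)).op)).1 inferInstance).1
        refine Eq.trans ?_ (map_zero _).symm
        refine Eq.trans ?_ t.2
        rw [← hs]
        refine (ConcreteCategory.congr_hom (F.obj.map_comp _ _) s).symm.trans ?_
        exact ConcreteCategory.congr_hom (F.obj.map_comp (eqToHom hT).op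
          ((SheafCoh.openFun V).map (homOfLE (le_top : (Opens.map (CohCx.incl V)).obj W ≤ ⊤))).op) s⟩).toAddCommGrpIso)
    (fun {F G} g => by
      ext s
      apply Subtype.ext
      exact (ConcreteCategory.congr_hom (g.hom.naturality _) s.1).symm)

/-- Excision. -/
noncomputable def excisionIso {W : Opens X} (h : W ≤ V) (i : ℕ) :
    Abelian.extFunctorObj (LocCohZ.zq h) i ≅ CohTop.restrFunctor V ⋙
      Abelian.extFunctorObj (LocCohZ.zq (le_top : (Opens.map (CohCx.incl V)).obj W ≤ ⊤)) i :=
  have := preservesFiniteLimits_restr V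
  have := preservesFiniteColimits_restr V
  have : (sectZF (le_top : (Opens.map (CohCx.incl V)).obj W ≤ ⊤)).Additive :=
    ⟨fun {A B f g} => by ext s; rfl⟩
  (rightDerivedSectZFIso h i).symm ≪≫ SheafCoh.rightDerivedCongr (restrSectZFIso V h) i ≪≫
    (rightDerivedPreExactIso (CohTop.restrFunctor V) (fun I _ => injective_restr V I) _ i).symm ≪≫
    Functor.isoWhiskerLeft (CohTop.restrFunctor V)
      (rightDerivedSectZFIso (le_top : (Opens.map (CohCx.incl V)).obj W ≤ ⊤) i)

end GrothLib.LocZ
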