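import Groth.Agent.Lib.LocZ.SS
import Groth.Agent.Lib.DerCat.DimShiftRD
import Mathlib.CategoryTheory.Limits.FunctorCategory.Basic

/-! # Local cohomology sheaves and groups with supports -/

set_option autoImplicit false
universe u

open CategoryTheory CategoryTheory.Limits Opposite TopologicalSpace

namespace GrothLib.LocZ

open GrothLib

variable {X : TopCat.{u}} (U : Opens X)

/-- Sections of the sheaf of sections with supports. -/
noncomputable def sectValIso (V : Opens X) :
    LocCohZ.sectSuppF U ⋙ sheafToPresheaf _ AddCommGrpCat.{u} ⋙ (evaluation _ _).obj (op V) ≅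
      sectZF (inf_le_left : V ⊓ U ≤ V) :=
  NatIso.ofComponents
    (fun F => (AddEquiv.ofBijective
      (AddMonoidHom.mk' (fun t => (⟨ι U F V t, AddMonoidHom.mem_ker.2 (ι_vanish U F V t)⟩ :
            LocCohZ.sectZ F (inf_le_left : V ⊓ U ≤ V)))
        (fun a b => Subtype.ext (map_add (ι U F V).hom a b)) :
        (CohCx.sectSupp U F).obj.obj (op V) →+ LocCohZ.sectZ F (inf_le_left : V ⊓ U ≤ V))
      ⟨fun a b e => ι_injective U F V (congrArg Subtype.val e), fun s => by
        obtain ⟨t, ht⟩ := exists_lift U F V s.1 s.2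
        exact ⟨t, Subtype.ext ht⟩⟩).toAddCommGrpIso)
    (fun {F G} g => by
      ext t
      apply Subtype.ext
      exact sectSuppF_map_ι U g V t)

theorem preservesFiniteLimits_sectZF {W V : Opens X} (h : W ≤ V) : PreservesFiniteLimits (sectZF h) :=
  have : PreservesLimitsOfSize.{0, 0} (GrothSS.homFun (LocCohZ.zq h)) :=
    have : PreservesLimitsOfSize.{0, 0} (GrothSS.homFun (LocCohZ.zq h) ⋙
        CategoryTheory.forget AddCommGrpCat.{u}) :=
      inferInstanceAs (PreservesLimitsOfSize.{0, 0} (coyoneda.obj (Opposite.op (LocCohZ.zq h))))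
    preservesLimits_of_reflects_of_preserves _ (CategoryTheory.forget AddCommGrpCat.{u})
  preservesFiniteLimits_of_natIso (sectZFIso h).symm

theorem preservesFiniteLimits_sectSuppF : PreservesFiniteLimits (LocCohZ.sectSuppF U) :=
  have : PreservesFiniteLimits (LocCohZ.sectSuppF U ⋙ sheafToPresheaf _ AddCommGrpCat.{u}) :=
    ⟨fun J _ _ => preservesLimitsOfShape_of_evaluation _ J (fun V =>
      have := preservesFiniteLimits_sectZF (inf_le_left : V.unop ⊓ U ≤ V.unop)
      have : PreservesFiniteLimits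
          ((LocCohZ.sectSuppF U ⋙ sheafToPresheaf _ AddCommGrpCat.{u}) ⋙ (evaluation _ _).obj V) :=
        preservesFiniteLimits_of_natIso (sectValIso U V.unop).symm
      inferInstance)⟩
  preservesFiniteLimits_of_reflects_of_preserves _ (sheafToPresheaf _ AddCommGrpCat.{u})

theorem isZero_sectSupp_iff (F : CohTop.Ab X) :
    IsZero (CohCx.sectSupp U F) ↔ ∀ V : Opens X, Subsingleton (LocCohZ.sectZ F (inf_le_left : V ⊓ U ≤ V)) := by
  constructor
  · intro h V
    have := ((sheafToPresheaf _ AddCommGrpCat.{u} ⋙ (evaluation _ _).obj (op V)).map_isZero h).of_iso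
      ((sectValIso U V).app F).symm
    exact AddCommGrpCat.subsingleton_of_isZero this
  · intro h
    rw [IsZero.iff_id_eq_zero]
    apply Sheaf.hom_ext
    ext V t
    apply ι_injective U F V.unop
    exact (congrArg Subtype.val (@Subsingleton.elim _ (h V.unop)
      ⟨ι U F V.unop t, AddMonoidHom.mem_ker.2 (ι_vanish U F V.unop t)⟩ 0)).trans (map_zero _).symm

theorem sectZF_map_surjective_of_flasque {S : ShortComplex (CohTop.Ab X)} (hS : S.ShortExact)
    [h₁ : TopCat.Sheaf.IsFlasque S.X₁] {W V : Opens X} (h : W ≤ V) :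
    Function.Surjective ((sectZF h).map S.g) := by
  intro s
  obtain ⟨a, ha⟩ := SheafCoh.flasque_sections_surjective hS V s.1
  have hex := (hS.exact.map_of_mono_of_preservesKernel
    (sheafToPresheaf _ AddCommGrpCat.{u} ⋙ (evaluation _ _).obj (op W))
    hS.mono_f inferInstance)
  have h0 : S.g.hom.app (op W) (S.X₂.obj.map (homOfLE h).op a) = 0 := by
    refine (ConcreteCategory.congr_hom (S.g.hom.naturality (homOfLE h).op) a).trans ?_
    exact (congrArg (S.X₃.obj.map (homOfLE h).op) ha).trans s.2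
  obtain ⟨b, hb⟩ := (ShortComplex.ab_exact_iff _).1 hex _ h0
  obtain ⟨b', hb'⟩ := (AddCommGrpCat.epi_iff_surjective _).1 (h₁.epi (homOfLE h).op) b
  refine ⟨(⟨a - S.f.hom.app (op V) b', ?_⟩ : LocCohZ.sectZ S.X₂ h), Subtype.ext ?_⟩
  · rw [AddMonoidHom.mem_ker]
    refine (map_sub _ _ _).trans (sub_eq_zero.2 ?_)
    refine Eq.trans ?_ (ConcreteCategory.congr_hom (S.f.hom.naturality (homOfLE h).op) b')
    exact hb.symm.trans (congrArg (S.f.hom.app (op W)) hb'.symm)
  · change S.g.hom.app (op V) (a - S.f.hom.app (op V) b') = s.1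
    rw [map_sub, ha]
    have : S.g.hom.app (op V) (S.f.hom.app (op V) b') = 0 :=
      ConcreteCategory.congr_hom (congrArg (fun k => k.hom.app (op V)) S.zero) b'
    rw [this, sub_zero]

theorem exists_lift_of_homFun {A : Type*} [Category A] [Abelian A] {Z M N : A}
    {Φ : A ⥤ AddCommGrpCat} (e : Φ ≅ GrothSS.homFun Z) (f : M ⟶ N)
    (hs : Function.Surjective (Φ.map f)) (g : Z ⟶ N) : ∃ g' : Z ⟶ M, g' ≫ f = g := by
  obtain ⟨s, hs⟩ := hs (e.inv.app N g)
  refine ⟨e.hom.app M s, ?_⟩
  refine ((ConcreteCategory.congr_hom (e.hom.naturality f) s).symm).trans ?_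
  exact (congrArg (e.hom.app N) hs).trans (ConcreteCategory.congr_hom (e.inv_hom_id_app N) g)

theorem subsingleton_HZ_of_flasque (F : CohTop.Ab X) [hF : TopCat.Sheaf.IsFlasque F] {W V : Opens X}
    (h : W ≤ V) (n : ℕ) : Subsingleton (LocCohZ.HZ F (n + 1) h) := by
  refine SheafCoh.subsingleton_of_class (LocCohZ.zq h) (fun G => TopCat.Sheaf.IsFlasque G) ?_ F hF n
  intro G hG
  have hS : ShortComplex.ShortExact (SheafCoh.injSES G) := SheafCoh.injSES_shortExact G
  have : TopCat.Sheaf.IsFlasque (SheafCoh.injSES G).X₁ := hG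
  have : TopCat.Sheaf.IsFlasque (SheafCoh.injSES G).X₂ := SheafCoh.isFlasque_of_injective (Injective.under G)
  exact ⟨TopCat.Sheaf.IsFlasque.of_shortExact_of_isFlasque₁₂ (X := X) hS, fun g =>
    exists_lift_of_homFun (sectZFIso h) _ (sectZF_map_surjective_of_flasque hS h) g⟩

theorem isZero_rightDerived_sectSuppF_of_flasque (F : CohTop.Ab X) [hF : TopCat.Sheaf.IsFlasque F] (n : ℕ) :
    IsZero ((LocCohZ.HZsh U (n + 1)).obj F) := by
  refine DimShift.isZero_rightDerived_of_class (LocCohZ.sectSuppF U)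
    (fun G => TopCat.Sheaf.IsFlasque G) ?_ ?_ F hF n
  · intro G G' e hG
    exact ⟨fun {A B} i => by
      have := hG.epi i
      have hn := e.hom.hom.naturality i
      have he : IsIso (e.hom.hom.app A) := inferInstanceAs
        (IsIso (((sheafToPresheaf _ AddCommGrpCat.{u}).map e.hom).app A))
      have he' : IsIso (e.hom.hom.app B) := inferInstanceAs
        (IsIso (((sheafToPresheaf _ AddCommGrpCat.{u}).map e.hom).app B))
      have : Epi (e.hom.hom.app A ≫ G'.obj.map i) := hn ▸ epi_comp _ _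
      exact epi_of_epi (e.hom.hom.app A) _⟩
  · intro S hS hI hG
    have : TopCat.Sheaf.IsFlasque S.X₂ := SheafCoh.isFlasque_of_injective S.X₂
    refine ⟨TopCat.Sheaf.IsFlasque.of_shortExact_of_isFlasque₁₂ (X := X) hS, ?_⟩
    have := preservesFiniteLimits_sectSuppF U
    have := hS.mono_f
    refine { exact := hS.exact.map_of_mono_of_preservesKernel _ inferInstance inferInstance
             mono_f := inferInstanceAs (Mono ((LocCohZ.sectSuppF U).map S.f))
             epi_g := ?_ }
    have : Epi ((sheafToPresheaf _ AddCommGrpCat.{u}).map ((LocCohZ.sectSuppF U).map S.g)) := by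
      rw [NatTrans.epi_iff_epi_app]
      intro V
      rw [AddCommGrpCat.epi_iff_surjective]
      intro t
      let e := sectValIso U V.unop
      obtain ⟨s, hs⟩ := sectZF_map_surjective_of_flasque hS _ (e.hom.app _ t)
      refine ⟨e.inv.app _ s, ?_⟩
      refine ((ConcreteCategory.congr_hom (e.inv.naturality S.g) s).symm).trans ?_
      exact (congrArg (e.inv.app _) hs).trans (ConcreteCategory.congr_hom (e.hom_inv_id_app _) t)
    exact (sheafToPresheaf _ AddCommGrpCat.{u}).epi_of_epi_map this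

/-- An embedding into an injective without sections with supports. -/
theorem exists_embedding (F : CohTop.Ab X) (h : IsZero (CohCx.sectSupp U F)) :
    ∃ S : ShortComplex (CohTop.Ab X), S.ShortExact ∧ Nonempty (S.X₁ ≅ F) ∧ Injective S.X₂ ∧
      IsZero (CohCx.sectSupp U S.X₂) := by
  have hη : Mono (η U F) := Preadditive.mono_of_isZero_kernel (η U F) h
  let J := Injective.under ((CohTop.pull (CohCx.incl U)).obj F)
  let g := (CohTop.push (CohCx.incl U)).map (Injective.ι ((CohTop.pull (CohCx.incl U)).obj F))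
  have hg : Mono g :=
    have : PreservesLimits (CohTop.push (CohCx.incl U)) :=
      (TopCat.Sheaf.pullbackPushforwardAdjunction AddCommGrpCat.{u} (CohCx.incl U)).rightAdjoint_preservesLimits
    have : (CohTop.push (CohCx.incl U)).PreservesMonomorphisms :=
      preservesMonomorphisms_of_preservesLimitsOfShape _
    (CohTop.push (CohCx.incl U)).map_mono _
  have hm : Mono (η U F ≫ g) := mono_comp _ _
  refine ⟨ShortComplex.mk (η U F ≫ g) (cokernel.π _) (cokernel.condition _),
    { exact := ShortComplex.exact_of_g_is_cokernel _ (cokernelIsCokernel _) }, ⟨Iso.refl _⟩,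
    SheafCoh.injective_push _ J, ?_⟩
  rw [isZero_sectSupp_iff]
  intro V
  refine subsingleton_of_forall_eq 0 fun s => Subtype.ext ?_
  let P := (CohTop.push (CohCx.incl U)).obj J
  have hiso : IsIso (P.obj.map (homOfLE (inf_le_left : V ⊓ U ≤ V)).op) := by
    have : IsIso ((Opens.map (CohCx.incl U)).map (homOfLE (inf_le_left : V ⊓ U ≤ V))) :=
      ⟨homOfLE (preimage_inf U V).le, Subsingleton.elim _ _, Subsingleton.elim _ _⟩
    exact inferInstanceAs (IsIso (J.obj.map
      ((Opens.map (CohCx.incl U)).map (homOfLE (inf_le_left : V ⊓ U ≤ V))).op))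
  exact ((ConcreteCategory.isIso_iff_bijective _).1 hiso).1 (s.2.trans (map_zero _).symm)

theorem HZsh_zero_iff (F : CohTop.Ab X) :
    IsZero ((LocCohZ.HZsh U 0).obj F) ↔ IsZero (CohCx.sectSupp U F) :=
  have := preservesFiniteLimits_sectSuppF U
  ((LocCohZ.sectSuppF U).rightDerivedZeroIsoSelf.app F).isZero_iff

theorem subsingleton_HZ_zero_iff (F : CohTop.Ab X) {W V : Opens X} (h : W ≤ V) :
    Subsingleton (LocCohZ.HZ F 0 h) ↔ Subsingleton (LocCohZ.sectZ F h) :=
  ⟨fun _ => (LocCohZ.sect0Equiv F h).symm.toEquiv.subsingleton,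
    fun _ => (LocCohZ.sect0Equiv F h).toEquiv.subsingleton⟩

/-- The data used for shifting degrees. -/
theorem exists_shift (F : CohTop.Ab X) (h : IsZero (CohCx.sectSupp U F)) :
    ∃ S : ShortComplex (CohTop.Ab X), ∃ hS : S.ShortExact, Nonempty (S.X₁ ≅ F) ∧
      (∀ i, IsZero ((LocCohZ.HZsh U (i + 1)).obj F) ↔ IsZero ((LocCohZ.HZsh U i).obj S.X₃)) ∧
      (∀ (V : Opens X) (i : ℕ), Subsingleton (LocCohZ.HZ S.X₂ i (inf_le_left : V ⊓ U ≤ V))) := by
  obtain ⟨S, hS, ⟨e⟩, hI, h0⟩ := exists_embedding U F h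
  have hsub : ∀ (V : Opens X) (i : ℕ), Subsingleton (LocCohZ.HZ S.X₂ i (inf_le_left : V ⊓ U ≤ V)) := by
    intro V i
    cases i with
    | zero => exact (subsingleton_HZ_zero_iff _ _).2 ((isZero_sectSupp_iff U _).1 h0 V)
    | succ i => exact Abelian.Ext.subsingleton_of_injective _ _ _
  refine ⟨S, hS, ⟨e⟩, fun i => ?_, hsub⟩
  have := preservesFiniteLimits_sectSuppF U
  refine (((LocCohZ.HZsh U (i + 1)).mapIso e).isZero_iff).symm.trans ?_
  cases i with
  | succ i => exact (HomGamma.shiftIso hS (LocCohZ.sectSuppF U) i).isZero_iff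
  | zero =>
    refine Iso.isZero_iff ?_
    have hz : (LocCohZ.sectSuppF U).map S.g = 0 := IsZero.eq_of_src h0 _ _
    exact HomGamma.shiftIsoOne hS (LocCohZ.sectSuppF U) ≪≫ cokernelIsoOfEq hz ≪≫ cokernelZeroIsoTarget ≪≫
      ((LocCohZ.sectSuppF U).rightDerivedZeroIsoSelf.app S.X₃).symm

theorem subsingleton_HZ_congr {F G : CohTop.Ab X} (e : F ≅ G) {W V : Opens X} (h : W ≤ V) (i : ℕ) :
    Subsingleton (LocCohZ.HZ F i h) ↔ Subsingleton (LocCohZ.HZ G i h) :=
  let E : LocCohZ.HZ F i h ≃+ LocCohZ.HZ G i h :=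
    ((Abelian.extFunctorObj (LocCohZ.zq h) i).mapIso e).addCommGroupIsoToAddEquiv
  ⟨fun _ => E.symm.toEquiv.subsingleton, fun _ => E.toEquiv.subsingleton⟩

/-- The sheaves vanish below `n` iff the groups do, on all opens. -/
theorem isZero_HZsh_lt_iff (n : ℕ) : ∀ F : CohTop.Ab X,
    (∀ i : ℕ, i < n → IsZero ((LocCohZ.HZsh U i).obj F)) ↔
      ∀ (V : Opens X) (i : ℕ), i < n → Subsingleton (LocCohZ.HZ F i (inf_le_left : V ⊓ U ≤ V)) := by
  induction n with
  | zero => exact fun F => ⟨fun _ V i hi => absurd hi (Nat.not_lt_zero i),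
      fun _ i hi => absurd hi (Nat.not_lt_zero i)⟩
  | succ n ih =>
    intro F
    constructor
    · intro h
      have h0 := (HZsh_zero_iff U F).1 (h 0 (Nat.succ_pos n))
      obtain ⟨S, hS, ⟨e⟩, hsh, hsub⟩ := exists_shift U F h0
      intro V i hi
      cases i with
      | zero => exact (subsingleton_HZ_zero_iff _ _).2 ((isZero_sectSupp_iff U _).1 h0 V)
      | succ i =>
        refine (subsingleton_HZ_congr e _ _).1 ?_
        have := (ih S.X₃).1 (fun j hj => (hsh j).1 (h (j + 1) (Nat.succ_lt_succ hj))) V i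
          (Nat.lt_of_succ_lt_succ hi)
        exact (SheafCoh.extShift hS i (hsub V i) (hsub V (i + 1))).symm.toEquiv.subsingleton
    · intro h
      have h0 : IsZero (CohCx.sectSupp U F) := (isZero_sectSupp_iff U F).2
        (fun V => (subsingleton_HZ_zero_iff _ _).1 (h V 0 (Nat.succ_pos n)))
      obtain ⟨S, hS, ⟨e⟩, hsh, hsub⟩ := exists_shift U F h0
      intro i hi
      cases i with
      | zero => exact (HZsh_zero_iff U F).2 h0
      | succ i =>
        refine (hsh i).2 ((ih S.X₃).2 (fun V j hj => ?_) i (Nat.lt_of_succ_lt_succ hi))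
        have := (subsingleton_HZ_congr e (inf_le_left : V ⊓ U ≤ V) (j + 1)).2
          (h V (j + 1) (Nat.succ_lt_succ hj))
        exact (SheafCoh.extShift hS j (hsub V j) (hsub V (j + 1))).toEquiv.subsingleton

end GrothLib.LocZ
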