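import Groth.Agent.Lib.LocZ.Basic
import Groth.Agent.Lib.GrothSS.Site
import Groth.Agent.Lib.SheafCoh.Top

/-! # Acyclicity for the spectral sequences with supports -/

set_option autoImplicit false
universe u

open CategoryTheory CategoryTheory.Limits Opposite TopologicalSpace

namespace GrothLib.LocZ

open GrothLib

variable {X : TopCat.{u}}

theorem isZero_rightDerived_secAt_of_flasque (V : Opens X) (G : CohTop.Ab X)
    [TopCat.Sheaf.IsFlasque G] (q : ℕ) :
    IsZero (((GrothSS.secAt (Opens.grothendieckTopology X) V).rightDerived (q + 1)).obj G) := by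
  have : Subsingleton (CohTop.HU G (q + 1) V) := SheafCoh.flasque_HU_subsingleton G q V
  exact (AddCommGrpCat.isZero_of_subsingleton _).of_iso
    (GrothSS.rightDerivedSecAtIso (Opens.grothendieckTopology X) V G (q + 1))

/-- Sections with supports of a direct image. -/
noncomputable def pushSectZFIso {Y : TopCat.{u}} (f : X ⟶ Y) (V : Opens Y) :
    CohTop.push f ⋙ sectZF (le_top : V ≤ ⊤) ≅ sectZF (le_top : (Opens.map f).obj V ≤ ⊤) :=
  NatIso.ofComponents (fun F => Iso.refl _) (fun g => by ext s; rfl)

end GrothLib.LocZ
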