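import Groth.Agent.Lib.LocZ.Sheaf

/-! # The long exact sequence with supports, and local vanishing -/

set_option autoImplicit false
universe u

open CategoryTheory CategoryTheory.Limits Opposite TopologicalSpace

namespace GrothLib.LocZ

open GrothLib

variable {X : TopCat.{u}} {W V : Opens X} (h : W ≤ V) (F : CohTop.Ab X)

/-- A class in `H^i(V, F)` as an Ext class. -/
abbrev asExt {i : ℕ} (x : CohTop.HU F i V) :
    Abelian.Ext.{u} (CohCx.freeSheaf (Opens.grothendieckTopology X) V) F i := x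

theorem res_eq_comp (i : ℕ) (x : CohTop.HU F i V) :
    asExt F (CohTop.res F i h x) = (Abelian.Ext.mk₀ (CohCx.freeSheafMap (Opens.grothendieckTopology X)
      (homOfLE h))).comp (asExt F x) (zero_add i) := rfl

theorem res_toHU (i : ℕ) (x : LocCohZ.HZ F i h) : CohTop.res F i h (LocCohZ.toHU F i h x) = 0 := by
  change asExt F (CohTop.res F i h (LocCohZ.toHU F i h x)) = 0
  rw [res_eq_comp]
  exact (Abelian.Ext.mk₀_comp_mk₀_assoc (CohCx.freeSheafMap (Opens.grothendieckTopology X) (homOfLE h))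
    (cokernel.π _) (α := x)).trans (by rw [cokernel.condition, Abelian.Ext.mk₀_zero, Abelian.Ext.zero_comp])

theorem exists_delta {i : ℕ} (x : LocCohZ.HZ F (i + 1) h) (hx : LocCohZ.toHU F (i + 1) h x = 0) :
    ∃ y : CohTop.HU F i W, LocCohZ.delta F i h y = x :=
  Abelian.Ext.contravariant_sequence_exact₃ (LocCohZ.zqSeq_shortExact h) F x hx (by omega)

theorem exists_res_of_delta_eq_zero {i : ℕ} (y : CohTop.HU F i W) (hy : LocCohZ.delta F i h y = 0) :
    ∃ x : CohTop.HU F i V, CohTop.res F i h x = y :=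
  Abelian.Ext.contravariant_sequence_exact₁ (LocCohZ.zqSeq_shortExact h) F y (by omega) hy

theorem exists_toHU {i : ℕ} (x : CohTop.HU F i V) (hx : CohTop.res F i h x = 0) :
    ∃ z : LocCohZ.HZ F i h, LocCohZ.toHU F i h z = x :=
  Abelian.Ext.contravariant_sequence_exact₂ (LocCohZ.zqSeq_shortExact h) F x hx

theorem delta_res (i : ℕ) (x : CohTop.HU F i V) : LocCohZ.delta F i h (CohTop.res F i h x) = 0 :=
  (LocCohZ.zqSeq_shortExact h).extClass_comp_assoc (asExt F x) (h := by omega)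

theorem toHU_zero_injective : Function.Injective (LocCohZ.toHU F 0 h) := by
  intro a b hab
  apply Abelian.Ext.addEquiv₀.injective
  apply (cancel_epi (cokernel.π (CohCx.freeSheafMap (Opens.grothendieckTopology X) (homOfLE h)))).1
  apply Abelian.Ext.addEquiv₀.symm.injective
  change Abelian.Ext.mk₀ _ = Abelian.Ext.mk₀ _
  rw [← Abelian.Ext.mk₀_comp_mk₀, ← Abelian.Ext.mk₀_comp_mk₀, Abelian.Ext.mk₀_addEquiv₀_apply,
    Abelian.Ext.mk₀_addEquiv₀_apply]
  exact hab

/-- Restriction is injective in degree `i` and surjective in degree `i - 1` when supports vanish in degree `i`. -/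
theorem res_injective_of_subsingleton (i : ℕ) [Subsingleton (LocCohZ.HZ F i h)] :
    Function.Injective (CohTop.res F i h) := by
  rw [injective_iff_map_eq_zero]
  intro x hx
  obtain ⟨z, rfl⟩ := exists_toHU h F x hx
  rw [Subsingleton.elim z 0, map_zero]

theorem res_surjective_of_subsingleton (i : ℕ) [Subsingleton (LocCohZ.HZ F (i + 1) h)] :
    Function.Surjective (CohTop.res F i h) :=
  fun y => exists_res_of_delta_eq_zero h F y (Subsingleton.elim _ _)

theorem toHU_injective_of_surjective (i : ℕ) (hs : Function.Surjective (CohTop.res F i h)) :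
    Function.Injective (LocCohZ.toHU F (i + 1) h) := by
  rw [injective_iff_map_eq_zero]
  intro x hx
  obtain ⟨y, rfl⟩ := exists_delta h F x hx
  obtain ⟨w, rfl⟩ := hs y
  exact delta_res h F i w

theorem subsingleton_HZ_zero (hi : Function.Injective (CohTop.res F 0 h)) :
    Subsingleton (LocCohZ.HZ F 0 h) :=
  subsingleton_of_forall_eq 0 fun x => toHU_zero_injective h F
    ((hi ((res_toHU h F 0 x).trans (map_zero _).symm)).trans (map_zero _).symm)

theorem subsingleton_HZ_succ (i : ℕ) (hs : Function.Surjective (CohTop.res F i h))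
    (hi : Function.Injective (CohTop.res F (i + 1) h)) : Subsingleton (LocCohZ.HZ F (i + 1) h) :=
  subsingleton_of_forall_eq 0 fun x => toHU_injective_of_surjective h F i hs
    ((hi ((res_toHU h F (i + 1) x).trans (map_zero _).symm)).trans (map_zero _).symm)

theorem toHU_resZ (i : ℕ) {W' V' : Opens X} (h' : W' ≤ V') (hW : W' ≤ W) (hV : V' ≤ V) (x : LocCohZ.HZ F i h) :
    LocCohZ.toHU F i h' (LocCohZ.resZ F i h h' hW hV x) = CohTop.res F i hV (LocCohZ.toHU F i h x) := by
  refine (Abelian.Ext.mk₀_comp_mk₀_assoc (cokernel.π _) (LocCohZ.zqMap h h' hW hV) (α := x)).trans ?_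
  rw [show cokernel.π _ ≫ LocCohZ.zqMap h h' hW hV =
    CohCx.freeSheafMap (Opens.grothendieckTopology X) (homOfLE hV) ≫
      cokernel.π (CohCx.freeSheafMap (Opens.grothendieckTopology X) (homOfLE h)) from cokernel.π_desc _ _ _]
  exact (Abelian.Ext.mk₀_comp_mk₀_assoc _ _ (α := x)).symm

theorem sect0_resZ {W' V' : Opens X} (h' : W' ≤ V') (hW : W' ≤ W) (hV : V' ≤ V) (x : LocCohZ.HZ F 0 h) :
    (LocCohZ.sect0Equiv F h' (LocCohZ.resZ F 0 h h' hW hV x)).1 =
      F.obj.map (homOfLE hV).op (LocCohZ.sect0Equiv F h x).1 := by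
  obtain ⟨g, rfl⟩ : ∃ g, Abelian.Ext.mk₀ g = x := ⟨_, Abelian.Ext.mk₀_addEquiv₀_apply x⟩
  have : LocCohZ.resZ F 0 h h' hW hV (Abelian.Ext.mk₀ g) = Abelian.Ext.mk₀ (LocCohZ.zqMap h h' hW hV ≫ g) :=
    Abelian.Ext.mk₀_comp_mk₀ _ _
  rw [this]
  change CohFree.evalGen _ V' F (cokernel.π _ ≫ Abelian.Ext.addEquiv₀ (Abelian.Ext.addEquiv₀.symm _)) =
    F.obj.map (homOfLE hV).op
      (CohFree.evalGen _ V F (cokernel.π _ ≫ Abelian.Ext.addEquiv₀ (Abelian.Ext.addEquiv₀.symm g)))
  rw [AddEquiv.apply_symm_apply, AddEquiv.apply_symm_apply]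
  refine Eq.trans ?_ (CohFree.evalGen_freeSheafMap_comp _ (homOfLE hV) F (cokernel.π _ ≫ g))
  congr 1
  rw [LocCohZ.zqMap, cokernel.π_desc_assoc, Category.assoc]

omit h F in
/-- In the lowest degree with a nonzero class the classes form a separated presheaf. -/
theorem HZ_separated (U : Opens X) (N : ℕ) : ∀ F : CohTop.Ab X,
    (∀ (V : Opens X) (i : ℕ), i < N → Subsingleton (LocCohZ.HZ F i (inf_le_left : V ⊓ U ≤ V))) →
    ∀ (V : Opens X) (x : LocCohZ.HZ F N (inf_le_left : V ⊓ U ≤ V)),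
      (∃ S ∈ Opens.grothendieckTopology X V, ∀ ⦃V' : Opens X⦄ (f : V' ⟶ V), S f →
        LocCohZ.resZ F N (inf_le_left : V ⊓ U ≤ V) (inf_le_left : V' ⊓ U ≤ V')
          (inf_le_inf_right U f.le) f.le x = 0) → x = 0 := by
  induction N with
  | zero =>
    rintro F - V x ⟨S, hS, hx⟩
    apply (LocCohZ.sect0Equiv F (inf_le_left : V ⊓ U ≤ V)).injective
    rw [map_zero]
    apply Subtype.ext
    refine (((isSheaf_iff_isSheaf_of_type _ _).1
      (((Presheaf.isSheaf_iff_isSheaf_forget _ _ (forget AddCommGrpCat.{u}))).1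
        F.property)).isSeparated S hS).ext ?_
    intro V' f hf
    change F.obj.map f.op _ = F.obj.map f.op 0
    rw [map_zero]
    refine (sect0_resZ (inf_le_left : V ⊓ U ≤ V) F (inf_le_left : V' ⊓ U ≤ V')
      (inf_le_inf_right U f.le) f.le x).symm.trans ?_
    rw [hx f hf, map_zero]
    rfl
  | succ N ih =>
    rintro F hF V x ⟨S, hS, hx⟩
    have h0 : IsZero (CohCx.sectSupp U F) := (isZero_sectSupp_iff U F).2
      (fun V' => (subsingleton_HZ_zero_iff _ _).1 (hF V' 0 (Nat.succ_pos N)))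
    obtain ⟨T, hT, ⟨e⟩, -, hsub⟩ := exists_shift U F h0
    have hQ : ∀ (V : Opens X) (i : ℕ), i < N → Subsingleton (LocCohZ.HZ T.X₃ i (inf_le_left : V ⊓ U ≤ V)) :=
      fun V' j hj => by
        have := (subsingleton_HZ_congr e (inf_le_left : V' ⊓ U ≤ V') (j + 1)).2
          (hF V' (j + 1) (Nat.succ_lt_succ hj))
        exact (SheafCoh.extShift hT j (hsub V' j) (hsub V' (j + 1))).toEquiv.subsingleton
    obtain ⟨y, hy⟩ := SheafCoh.extClass_surjective hT N (hsub V (N + 1))
      (x.comp (Abelian.Ext.mk₀ e.inv) (add_zero _))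
    have hy0 : y = 0 := by
      refine ih T.X₃ hQ V y ⟨S, hS, fun V' f hf => ?_⟩
      apply SheafCoh.extClass_injective hT N (hsub V' N)
      change Abelian.Ext.comp ((Abelian.Ext.mk₀ _).comp y (zero_add N)) hT.extClass rfl =
        Abelian.Ext.comp 0 hT.extClass rfl
      rw [Abelian.Ext.zero_comp, Abelian.Ext.comp_assoc (Abelian.Ext.mk₀ _) y _ (zero_add N) rfl (by omega), hy,
        ← Abelian.Ext.comp_assoc (Abelian.Ext.mk₀ _) x _ (zero_add (N + 1)) (add_zero _) (by omega)]
      exact (congrArg (fun z : LocCohZ.HZ F (N + 1) (inf_le_left : V' ⊓ U ≤ V') =>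
        z.comp (Abelian.Ext.mk₀ e.inv) (add_zero _)) (hx f hf)).trans (Abelian.Ext.zero_comp _ _ _ _ _)
    rw [hy0, Abelian.Ext.zero_comp] at hy
    have := congrArg (fun z : Abelian.Ext _ T.X₁ (N + 1) => z.comp (Abelian.Ext.mk₀ e.hom) (add_zero _)) hy
    simpa using this.symm

end GrothLib.LocZ
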