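import Groth.Agent.Lib.LocZ.Excision

/-! # The unit on opens of `U` and on sections of flasque sheaves -/

set_option autoImplicit false
universe u

open CategoryTheory CategoryTheory.Limits Opposite TopologicalSpace

namespace GrothLib.LocZ

variable {X : TopCat.{u}} (U : Opens X)

lemma preimage_openFun (W : Opens (TopCat.of U)) :
    (Opens.map (CohCx.incl U)).obj ((SheafCoh.openFun U).obj W) = W :=
  Opens.ext (by
    ext z
    exact ⟨fun ⟨z', hz', e⟩ => by obtain rfl : z' = z := Subtype.ext e; exact hz', fun hz => ⟨z, hz, rfl⟩⟩)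

section

variable {U}
variable {G G' : CohTop.Ab (TopCat.of U)} (f : (CohTop.push (CohCx.incl U)).obj G ⟶ (CohTop.push (CohCx.incl U)).obj G')

/-- The components of a map of direct images. -/
noncomputable def comp' (V : Opens X) : G.obj.obj (op ((Opens.map (CohCx.incl U)).obj V)) ⟶
    G'.obj.obj (op ((Opens.map (CohCx.incl U)).obj V)) := f.hom.app (op V)

lemma comp'_naturality {V V' : Opens X} (h : V' ≤ V)
    (g : (Opens.map (CohCx.incl U)).obj V' ⟶ (Opens.map (CohCx.incl U)).obj V) :
    G.obj.map g.op ≫ comp' f V' = comp' f V ≫ G'.obj.map g.op := by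
  obtain rfl : g = (Opens.map (CohCx.incl U)).map (homOfLE h) := Subsingleton.elim _ _
  exact f.hom.naturality (homOfLE h).op

end

/-- Direct image from an open is fully faithful. -/
noncomputable def pushFullyFaithful : (CohTop.push (CohCx.incl U)).FullyFaithful where
  preimage {G G'} f :=
    ObjectProperty.homMk
      { app := fun W => G.obj.map (eqToHom (preimage_openFun U W.unop)).op ≫
          comp' f ((SheafCoh.openFun U).obj W.unop) ≫
            G'.obj.map (eqToHom (preimage_openFun U W.unop).symm).op
        naturality := fun W W' i => by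
          obtain ⟨W⟩ := W
          obtain ⟨W'⟩ := W'
          obtain ⟨j, rfl⟩ : ∃ j, Quiver.Hom.op j = i := ⟨i.unop, rfl⟩
          have hn := comp'_naturality f ((SheafCoh.openFun U).map j).le
            ((Opens.map (CohCx.incl U)).map ((SheafCoh.openFun U).map j))
          simp only [Category.assoc]
          rw [← Category.assoc (G.obj.map j.op), ← G.obj.map_comp,
            show j.op ≫ (eqToHom (preimage_openFun U W')).op = (eqToHom (preimage_openFun U W)).op ≫
              ((Opens.map (CohCx.incl U)).map ((SheafCoh.openFun U).map j)).op from Subsingleton.elim _ _,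
            G.obj.map_comp, Category.assoc, reassoc_of% hn, ← G'.obj.map_comp, ← G'.obj.map_comp]
          congr 3 }
  map_preimage {G G'} f := by
    apply Sheaf.hom_ext
    apply NatTrans.ext
    funext V
    obtain ⟨V⟩ := V
    have hV : (SheafCoh.openFun U).obj ((Opens.map (CohCx.incl U)).obj V) ≤ V :=
      fun x ⟨y, hy, e⟩ => e ▸ hy
    change G.obj.map (eqToHom (preimage_openFun U ((Opens.map (CohCx.incl U)).obj V))).op ≫
      comp' f ((SheafCoh.openFun U).obj ((Opens.map (CohCx.incl U)).obj V)) ≫
        G'.obj.map (eqToHom (preimage_openFun U ((Opens.map (CohCx.incl U)).obj V)).symm).op = comp' f V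
    rw [← Category.assoc, comp'_naturality f hV, Category.assoc, ← G'.obj.map_comp,
      ← op_comp, eqToHom_trans, eqToHom_refl, op_id, G'.obj.map_id, Category.comp_id]
  preimage_map {G G'} f := by
    apply Sheaf.hom_ext
    apply NatTrans.ext
    funext W
    obtain ⟨W⟩ := W
    change G.obj.map (eqToHom (preimage_openFun U W)).op ≫
      f.hom.app (op ((Opens.map (CohCx.incl U)).obj ((SheafCoh.openFun U).obj W))) ≫
        G'.obj.map (eqToHom (preimage_openFun U W).symm).op = f.hom.app (op W)
    rw [← f.hom.naturality, ← G.obj.map_comp_assoc, ← op_comp, eqToHom_trans, eqToHom_refl, op_id,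
      G.obj.map_id, Category.id_comp]

theorem isIso_η_app (F : CohTop.Ab X) {W : Opens X} (hW : W ≤ U) : IsIso ((η U F).hom.app (op W)) := by
  have := (pushFullyFaithful U).full
  have := (pushFullyFaithful U).faithful
  have : IsIso ((CohTop.restrFunctor U).map ((restrAdj U).unit.app F)) :=
    isIso_of_comp_hom_eq_id _ ((restrAdj U).left_triangle_components F)
  have h₁ : IsIso (((sheafToPresheaf _ AddCommGrpCat.{u}).map
      ((CohTop.restrFunctor U).map ((restrAdj U).unit.app F))).app
        (op ((Opens.map (CohCx.incl U)).obj W))) := inferInstance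
  have h₂ : IsIso (((restrAdj U).unit.app F).hom.app
      (op ((SheafCoh.openFun U).obj ((Opens.map (CohCx.incl U)).obj W)))) := h₁
  rw [openFun_preimage U hW] at h₂
  let e := ((SheafCoh.isOpenEmbedding_inclusion U).sheafPullbackIso AddCommGrpCat.{u})
  let c : (CohTop.push (CohCx.incl U)).obj ((CohTop.pull (CohCx.incl U)).obj F) ⟶
      (CohTop.push (CohCx.incl U)).obj ((CohTop.restrFunctor U).obj F) :=
    (CohTop.push (CohCx.incl U)).map (e.hom.app F)
  have he : (restrAdj U).unit.app F = η U F ≫ c := rfl
  have hei : IsIso (e.hom.app F) := ⟨e.inv.app F, e.hom_inv_id_app F, e.inv_hom_id_app F⟩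
  have : IsIso c := @Functor.map_isIso _ _ _ _ _ _ (CohTop.push (CohCx.incl U)) (e.hom.app F) hei
  have hc : IsIso (c.hom.app (op W)) :=
    inferInstanceAs (IsIso (((sheafToPresheaf _ AddCommGrpCat.{u}).map c).app (op W)))
  have h₃ : IsIso ((η U F).hom.app (op W) ≫ c.hom.app (op W)) := by
    rw [he] at h₂
    exact h₂
  exact IsIso.of_isIso_comp_right _ (c.hom.app (op W))

theorem epi_η_app_of_flasque (F : CohTop.Ab X) [hF : TopCat.Sheaf.IsFlasque F] (V : Opens X) :
    Epi ((η U F).hom.app (op V)) := by
  let P := (CohTop.push (CohCx.incl U)).obj ((CohTop.pull (CohCx.incl U)).obj F)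
  let r := P.obj.map (homOfLE (inf_le_left : V ⊓ U ≤ V)).op
  have hiso : IsIso r := by
    have : IsIso ((Opens.map (CohCx.incl U)).map (homOfLE (inf_le_left : V ⊓ U ≤ V))) :=
      ⟨homOfLE (preimage_inf U V).le, Subsingleton.elim _ _, Subsingleton.elim _ _⟩
    exact inferInstanceAs (IsIso (((CohTop.pull (CohCx.incl U)).obj F).obj.map
      ((Opens.map (CohCx.incl U)).map (homOfLE (inf_le_left : V ⊓ U ≤ V))).op))
  have := isIso_η_app U F (inf_le_right : V ⊓ U ≤ U)
  have := hF.epi (homOfLE (inf_le_left : V ⊓ U ≤ V)).op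
  have he : (η U F).hom.app (op V) =
      (F.obj.map (homOfLE (inf_le_left : V ⊓ U ≤ V)).op ≫ (η U F).hom.app (op (V ⊓ U))) ≫ inv r :=
    (IsIso.eq_comp_inv r).2 ((η U F).hom.naturality _).symm
  rw [he]
  exact epi_comp _ _

end GrothLib.LocZ
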