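import Groth.Agent.Lib.LocZ.Seq
import Mathlib.Topology.Sheaves.MayerVietoris
import Mathlib.CategoryTheory.Sites.SheafCohomology.MayerVietoris

/-! # Mayer–Vietoris for supports -/

set_option autoImplicit false
universe u

open CategoryTheory CategoryTheory.Limits Opposite TopologicalSpace

namespace GrothLib.LocZ

open GrothLib

variable {X : TopCat.{u}} (U U' : Opens X)

local notation "J" => Opens.grothendieckTopology X
local notation "π⊤" W => cokernel.π (CohCx.freeSheafMap (Opens.grothendieckTopology X) (homOfLE (le_top : W ≤ ⊤)))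

/-- `ℤ_X/ℤ_W' → ℤ_X/ℤ_W` for `W' ≤ W`. -/
noncomputable abbrev zqTop {W W' : Opens X} (h : W' ≤ W) :
    LocCohZ.zq (le_top : W' ≤ ⊤) ⟶ LocCohZ.zq (le_top : W ≤ ⊤) :=
  LocCohZ.zqMap (le_top : W ≤ ⊤) (le_top : W' ≤ ⊤) h le_rfl

@[reassoc]
lemma π_zqTop {W W' : Opens X} (h : W' ≤ W) : (π⊤ W') ≫ zqTop h = π⊤ W :=
  (cokernel.π_desc _ _ _).trans
    ((congrArg (· ≫ _) (CohFree.freeSheafMap_id J (⊤ : Opens X))).trans (Category.id_comp _))

lemma zqTop_comp {W W' W'' : Opens X} (h : W' ≤ W) (h' : W'' ≤ W') :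
    zqTop h' ≫ zqTop h = zqTop (h'.trans h) := by
  rw [← cancel_epi (π⊤ W''), π_zqTop_assoc, π_zqTop, π_zqTop]

/-- `0 → ℤ/ℤ_{U∩U'} → ℤ/ℤ_U ⊕ ℤ/ℤ_{U'} → ℤ/ℤ_{U∪U'} → 0`. -/
noncomputable def mvSeq : ShortComplex (CohTop.Ab X) :=
  ShortComplex.mk (biprod.lift (zqTop (inf_le_left : U ⊓ U' ≤ U)) (-zqTop (inf_le_right : U ⊓ U' ≤ U')))
    (biprod.desc (zqTop (le_sup_left : U ≤ U ⊔ U')) (zqTop (le_sup_right : U' ≤ U ⊔ U')))
    (by rw [biprod.lift_desc, Preadditive.neg_comp, zqTop_comp, zqTop_comp, add_neg_cancel])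

theorem mvSeq_shortExact : (mvSeq U U').ShortExact := by
  let S := Opens.mayerVietorisSquare U U'
  have hS := S.shortComplex_shortExact
  let f : CohCx.freeSheaf J (U ⊓ U') ⟶ CohCx.freeSheaf J U ⊞ CohCx.freeSheaf J U' :=
    biprod.lift (CohCx.freeSheafMap J (homOfLE (inf_le_left : U ⊓ U' ≤ U)))
      (-CohCx.freeSheafMap J (homOfLE (inf_le_right : U ⊓ U' ≤ U')))
  let g : CohCx.freeSheaf J U ⊞ CohCx.freeSheaf J U' ⟶ CohCx.freeSheaf J (U ⊔ U') :=
    biprod.desc (CohCx.freeSheafMap J (homOfLE (le_sup_left : U ≤ U ⊔ U')))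
      (CohCx.freeSheafMap J (homOfLE (le_sup_right : U' ≤ U ⊔ U')))
  have hfg : f ≫ g = 0 := S.shortComplex.zero
  have hex : (ShortComplex.mk f g hfg).Exact := hS.exact
  have hg : Epi g := hS.epi_g
  have hmono : Mono (mvSeq U U').f := by
    apply Preadditive.mono_of_cancel_zero
    intro A (x : A ⟶ LocCohZ.zq (le_top : U ⊓ U' ≤ ⊤)) hx
    have hxa : x ≫ zqTop (inf_le_left : U ⊓ U' ≤ U) = 0 := by
      simpa [mvSeq] using (congrArg (· ≫ biprod.fst) hx).trans zero_comp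
    have hxb : x ≫ zqTop (inf_le_right : U ⊓ U' ≤ U') = 0 := by
      simpa [mvSeq] using (congrArg (· ≫ biprod.snd) hx).trans zero_comp
    obtain ⟨A₁, p, hp, a, ha⟩ := surjective_up_to_refinements_of_epi (π⊤ (U ⊓ U')) x
    have h1 : a ≫ (π⊤ U) = 0 := by
      rw [← π_zqTop (inf_le_left : U ⊓ U' ≤ U), ← Category.assoc, ← ha, Category.assoc, hxa, comp_zero]
    have h2 : a ≫ (π⊤ U') = 0 := by
      rw [← π_zqTop (inf_le_right : U ⊓ U' ≤ U'), ← Category.assoc, ← ha, Category.assoc, hxb, comp_zero]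
    obtain ⟨A₂, q, hq, b₀, hb⟩ := ((ShortComplex.exact_iff_exact_up_to_refinements _).1
      (LocCohZ.zqSeq_shortExact (le_top : U ≤ ⊤)).exact) a h1
    let b : A₂ ⟶ CohCx.freeSheaf J U := b₀
    have hb : q ≫ a = b ≫ CohCx.freeSheafMap J (homOfLE (le_top : U ≤ ⊤)) := hb
    obtain ⟨A₃, r, hr, c₀, hc⟩ := ((ShortComplex.exact_iff_exact_up_to_refinements _).1
      (LocCohZ.zqSeq_shortExact (le_top : U' ≤ ⊤)).exact) (q ≫ a)
        ((Category.assoc _ _ _).trans ((congrArg (q ≫ ·) h2).trans comp_zero))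
    let c : A₃ ⟶ CohCx.freeSheaf J U' := c₀
    have hc : r ≫ q ≫ a = c ≫ CohCx.freeSheafMap J (homOfLE (le_top : U' ≤ ⊤)) := hc
    have hw : biprod.lift (r ≫ b) (-c) ≫ g = 0 := by
      have : Mono (CohCx.freeSheafMap J (homOfLE (le_top : U ⊔ U' ≤ ⊤))) :=
        (LocCohZ.zqSeq_shortExact (le_top : U ⊔ U' ≤ ⊤)).mono_f
      rw [← cancel_mono (CohCx.freeSheafMap J (homOfLE (le_top : U ⊔ U' ≤ ⊤))), zero_comp]
      simp only [g, biprod.lift_desc, Preadditive.add_comp, Category.assoc,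
        ← CohFree.freeSheafMap_comp, homOfLE_comp, Preadditive.neg_comp]
      rw [← hb, hc, add_neg_cancel]
    obtain ⟨A₄, s, hs, d, hd⟩ := ((ShortComplex.exact_iff_exact_up_to_refinements _).1 hex) _ hw
    have hd1 : s ≫ r ≫ b = d ≫ CohCx.freeSheafMap J (homOfLE (inf_le_left : U ⊓ U' ≤ U)) := by
      simpa [f] using congrArg (· ≫ biprod.fst) hd
    have hd2 : (s ≫ r ≫ q) ≫ a =
        d ≫ CohCx.freeSheafMap J (homOfLE (le_top : U ⊓ U' ≤ ⊤)) := by
      rw [Category.assoc, Category.assoc, hb]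
      calc s ≫ r ≫ b ≫ CohCx.freeSheafMap J (homOfLE (le_top : U ≤ ⊤))
          = (s ≫ r ≫ b) ≫ CohCx.freeSheafMap J (homOfLE (le_top : U ≤ ⊤)) := by simp
        _ = _ := by rw [hd1, Category.assoc, ← CohFree.freeSheafMap_comp, homOfLE_comp]
    have h3 : (s ≫ r ≫ q ≫ p) ≫ x = 0 := by
      calc (s ≫ r ≫ q ≫ p) ≫ x = ((s ≫ r ≫ q) ≫ a) ≫ (π⊤ (U ⊓ U')) := by simp [ha]
        _ = 0 := by rw [hd2, Category.assoc, cokernel.condition, comp_zero]
    exact (cancel_epi (s ≫ r ≫ q ≫ p)).1 (h3.trans comp_zero.symm)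
  have hepi : Epi (mvSeq U U').g := by
    have : Epi ((π⊤ U) ≫ zqTop (le_sup_left : U ≤ U ⊔ U')) := by rw [π_zqTop]; infer_instance
    have : Epi (zqTop (le_sup_left : U ≤ U ⊔ U')) := epi_of_epi (π⊤ U) _
    have : Epi (biprod.inl ≫ (mvSeq U U').g) := by
      dsimp [mvSeq]; rw [biprod.inl_desc]; infer_instance
    exact epi_of_epi biprod.inl _
  refine { exact := ShortComplex.exact_of_g_is_cokernel _ (CokernelCofork.IsColimit.ofπ' _ _ fun {A} k hk => ?_)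
           mono_f := hmono, epi_g := hepi }
  let k' : LocCohZ.zq (le_top : U ≤ ⊤) ⊞ LocCohZ.zq (le_top : U' ≤ ⊤) ⟶ A := k
  have hk' : biprod.lift (zqTop (inf_le_left : U ⊓ U' ≤ U)) (-zqTop (inf_le_right : U ⊓ U' ≤ U')) ≫ k' = 0 := hk
  have hk0 : (π⊤ U) ≫ biprod.inl ≫ k' = (π⊤ U') ≫ biprod.inr ≫ k' := by
    rw [← π_zqTop (inf_le_left : U ⊓ U' ≤ U), ← π_zqTop (inf_le_right : U ⊓ U' ≤ U')]
    rw [biprod.lift_eq, Preadditive.add_comp, Preadditive.neg_comp, Preadditive.neg_comp,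
      ← sub_eq_add_neg, sub_eq_zero, Category.assoc, Category.assoc] at hk'
    rw [Category.assoc, Category.assoc, hk']
  have hzero : CohCx.freeSheafMap J (homOfLE (le_top : U ⊔ U' ≤ ⊤)) ≫ (π⊤ U) ≫ biprod.inl ≫ k' = 0 := by
    rw [← cancel_epi g, comp_zero]
    apply biprod.hom_ext'
    · rw [comp_zero, biprod.inl_desc_assoc, ← Category.assoc (CohCx.freeSheafMap J _) (CohCx.freeSheafMap J _),
        ← CohFree.freeSheafMap_comp, homOfLE_comp, cokernel.condition_assoc, zero_comp]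
    · rw [comp_zero, biprod.inr_desc_assoc, hk0, ← Category.assoc (CohCx.freeSheafMap J _) (CohCx.freeSheafMap J _),
        ← CohFree.freeSheafMap_comp, homOfLE_comp, cokernel.condition_assoc, zero_comp]
  refine ⟨cokernel.desc _ ((π⊤ U) ≫ biprod.inl ≫ k') hzero, ?_⟩
  change biprod.desc _ _ ≫ _ = k'
  apply biprod.hom_ext'
  · rw [biprod.inl_desc_assoc]
    apply (cancel_epi (π⊤ U)).1
    exact ((π_zqTop_assoc (le_sup_left : U ≤ U ⊔ U') _).trans (cokernel.π_desc _ _ _))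
  · rw [biprod.inr_desc_assoc]
    apply (cancel_epi (π⊤ U')).1
    exact ((π_zqTop_assoc (le_sup_right : U' ≤ U ⊔ U') _).trans ((cokernel.π_desc _ _ _).trans hk0))

end GrothLib.LocZ
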